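import Groth.Agent.RelAssGen.Scheme
import Groth.Agent.RG.AssocFlat
import Groth.Agent.RG.NbMonoid
import Groth.Agent.ZClosLib.NzdAssoc
import Groth.Agent.QCoh.FlatOver
import Groth.Agent.QCoh.FT
import Groth.Prelude.Def_FlatMod2

/-!
Flatness at a point from flatness at the relatively associated points specialising to it.
-/

set_option autoImplicit false
set_option linter.style.haveILetI false
set_option linter.unusedSectionVars false
set_option backward.isDefEq.respectTransparency false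
set_option backward.isDefEq.respectTransparency.types false

universe u

open CategoryTheory AlgebraicGeometry IsLocalRing TensorProduct

namespace Groth.Agent.FlatAssoc

attribute [local instance] Algebra.TensorProduct.rightAlgebra

/-- An associated prime of the fibre module gives an element witnessing relative association. -/
theorem exists_witness {R S N : Type u} [CommRing R] [CommRing S] [Algebra R S] [AddCommGroup N] [Module S N]
    [Module R N] [IsScalarTower R S N] (p : Ideal R) [p.IsPrime] (q : Ideal S) [q.IsPrime] [q.LiesOver p]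
    (h : FlatCA.fiberIdeal p q ∈ associatedPrimes (p.Fiber S) (FlatCA.fiberMod p S N)) :
    ∃ n : N, (∀ s, s ∉ q → s • n ∉ p • (⊤ : Submodule R N)) ∧
      ∀ r : Ideal S, r.IsPrime → r ≤ q → (∀ b, b • n ∈ p • (⊤ : Submodule R N) → b ∈ r) → r = q := by
  obtain ⟨hP, x, hx⟩ := h
  haveI := hP
  obtain ⟨⟨nb, c⟩, hc⟩ := (AssFiber.isLocalizedModule_quotToFiber p (S := S) N).surj x
  obtain ⟨n, rfl⟩ := Submodule.Quotient.mk_surjective _ nb
  obtain ⟨r₀, hr₀, hr₀c⟩ := c.2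
  have hc' : algebraMap R S r₀ • x = FlatCA.toFiberMod p (S := S) N n := by
    rw [hr₀c]; exact hc
  have hcomap : ∀ s : S, algebraMap S (p.Fiber S) s ∈ FlatCA.fiberIdeal p q ↔ s ∈ q := by
    obtain ⟨⟨Q, hQ⟩, hQq⟩ := ZClosLib.NzdUnivInj.exists_prime_fiber p q
    rw [← ZClosLib.FibAssIdeal.eq_fiberIdeal p hQq]
    exact fun s => SetLike.ext_iff.1 hQq s
  have hzero : ∀ s : S, FlatCA.toFiberMod p (S := S) N (s • n) = 0 ↔
      algebraMap S (p.Fiber S) s ∈ Submodule.colon (⊥ : Submodule (p.Fiber S) (FlatCA.fiberMod p S N)) {x} := by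
    intro s
    rw [Submodule.mem_colon_singleton, Submodule.mem_bot, map_smul, ← hc', ← AssFiber.algebraMap_smul_fiberMod,
      ← AssFiber.algebraMap_smul_fiberMod, smul_comm]
    exact (ZClosLib.PurityBC.isUnit_algebraMap_fiber p hr₀).smul_eq_zero
  refine ⟨n, fun s hs hmem => hs ((hcomap s).1 ?_), fun r hr hrq hann => le_antisymm hrq fun b hb => ?_⟩
  · rw [hx]
    exact Ideal.le_radical ((hzero s).1 ((ZClosLib.PurityBC.toFiberMod_eq_zero_iff p N _).2
      ⟨1, fun h1 => ‹p.IsPrime›.ne_top ((Ideal.eq_top_iff_one _).2 h1), by rwa [one_smul]⟩))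
  · have h1 := (hcomap b).2 hb
    rw [hx] at h1
    obtain ⟨k, hk⟩ := h1
    rw [← map_pow] at hk
    obtain ⟨a, ha, hab⟩ := (ZClosLib.PurityBC.toFiberMod_eq_zero_iff p N _).1 ((hzero _).2 hk)
    rw [← algebraMap_smul S a, smul_smul] at hab
    refine (hr.mem_or_mem (hann _ hab)).elim (fun h2 => absurd ?_ ha) fun h2 => hr.mem_of_pow_mem k h2
    exact (Ideal.LiesOver.over (P := q) (p := p)).symm ▸ (show a ∈ q.comap (algebraMap R S) from hrq h2)

variable {X S : Scheme.{u}} (f : X ⟶ S) {U : X.Opens} (hU : IsAffineOpen U) {V : S.Opens} (hV : IsAffineOpen V)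
  (hle : U ≤ f ⁻¹ᵁ V)

include hU hV hle in
/-- Flatness at a point of an affine chart. -/
theorem isFlatOverAt_iff_flatAt {F : X.Modules} (hF : Coh.IsQCoh F) {x : X} (hx : x ∈ U) :
    letI : Algebra Γ(S, V) Γ(X, U) := (f.appLE V U hle).hom.toAlgebra
    letI : Module Γ(S, V) Γ(F, U) := Module.compHom _ (f.appLE V U hle).hom
    haveI : IsScalarTower Γ(S, V) Γ(X, U) Γ(F, U) := IsScalarTower.of_algebraMap_smul fun _ _ => rfl
    FlatMod.IsFlatOverAt f F x ↔ FlatCA.FlatAt Γ(S, V) (hU.primeIdealOf ⟨x, hx⟩).asIdeal Γ(F, U) := by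
  letI : Algebra Γ(S, V) Γ(X, U) := (f.appLE V U hle).hom.toAlgebra
  letI : Module Γ(S, V) Γ(F, U) := Module.compHom _ (f.appLE V U hle).hom
  haveI : IsScalarTower Γ(S, V) Γ(X, U) Γ(F, U) := IsScalarTower.of_algebraMap_smul fun _ _ => rfl
  letI := QCoh.stalkModule F hx
  letI : Module Γ(S, V) (F.presheaf.stalk x) :=
    Module.compHom _ ((f.appLE V U hle) ≫ X.presheaf.germ U x hx).hom
  haveI : IsScalarTower Γ(S, V) Γ(X, U) (F.presheaf.stalk x) := IsScalarTower.of_algebraMap_smul fun _ _ => rfl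
  haveI := QCoh.isLocalizedModule_germLin hF hU hx
  rw [QCoh.isFlatOverAt_iff f hV hle hx]
  let e := (IsLocalizedModule.iso (hU.primeIdealOf ⟨x, hx⟩).asIdeal.primeCompl (QCoh.germLin F hx)).restrictScalars Γ(S, V)
  refine ⟨fun h => ?_, fun h => ?_⟩
  · exact @Module.Flat.of_linearEquiv _ _ _ _ _ _ _ _ h e
  · exact @Module.Flat.of_linearEquiv _ _ _ _ _ _ _ _ h e.symm

include hU hV hle in
/-- A witness for association in an affine chart gives a relatively associated point. -/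
theorem mem_relAss_of_witness {F : X.Modules} (hF : Coh.IsQCoh F) {x : X} (hx : x ∈ U) :
    letI : Algebra Γ(S, V) Γ(X, U) := (f.appLE V U hle).hom.toAlgebra
    letI : Module Γ(S, V) Γ(F, U) := Module.compHom _ (f.appLE V U hle).hom
    haveI : IsScalarTower Γ(S, V) Γ(X, U) Γ(F, U) := IsScalarTower.of_algebraMap_smul fun _ _ => rfl
    ∀ n : Γ(F, U), (∀ s, s ∉ (hU.primeIdealOf ⟨x, hx⟩).asIdeal →
        s • n ∉ (hV.primeIdealOf ⟨f x, hle hx⟩).asIdeal • (⊤ : Submodule Γ(S, V) Γ(F, U))) →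
      (∀ r : Ideal Γ(X, U), r.IsPrime → r ≤ (hU.primeIdealOf ⟨x, hx⟩).asIdeal →
        (∀ b, b • n ∈ (hV.primeIdealOf ⟨f x, hle hx⟩).asIdeal • (⊤ : Submodule Γ(S, V) Γ(F, U)) → b ∈ r) →
        r = (hU.primeIdealOf ⟨x, hx⟩).asIdeal) →
      x ∈ MoreMor.relAss f F := by
  letI : Algebra Γ(S, V) Γ(X, U) := (f.appLE V U hle).hom.toAlgebra
  letI : Module Γ(S, V) Γ(F, U) := Module.compHom _ (f.appLE V U hle).hom
  haveI : IsScalarTower Γ(S, V) Γ(X, U) Γ(F, U) := IsScalarTower.of_algebraMap_smul fun _ _ => rfl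
  intro n h1 h2
  letI := QCoh.stalkAlg (X := X) (U := U) (x := x) hx
  letI := QCoh.stalkModule F hx
  haveI := QCoh.isScalarTower_stalk F hx
  haveI := QCoh.isLocalization_stalk' hU hx
  haveI := QCoh.isLocalizedModule_germLin hF hU hx
  have h3 := RelAssGen.isAssociatedPrime_of_conds (Bl := X.presheaf.stalk x) (hU.primeIdealOf ⟨x, hx⟩).asIdeal
    (QCoh.germLin F hx) _ n h1 h2
  letI := QCoh.stalkAlg (X := S) (U := V) (x := f x) (hle hx)
  haveI := QCoh.isLocalization_stalk' hV (hle hx)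
  have hbr : Ideal.map (f.stalkMap x).hom (maximalIdeal (S.presheaf.stalk (f x))) =
      ((hV.primeIdealOf ⟨f x, hle hx⟩).asIdeal.map (algebraMap Γ(S, V) Γ(X, U))).map
        (algebraMap Γ(X, U) (X.presheaf.stalk x)) := by
    rw [← IsLocalization.AtPrime.map_eq_maximalIdeal (hV.primeIdealOf ⟨f x, hle hx⟩).asIdeal
      (S.presheaf.stalk (f x)), Ideal.map_map, Ideal.map_map]
    congr 1
    refine RingHom.ext fun a => ?_
    show f.stalkMap x (S.presheaf.germ V (f x) (hle hx) a) = X.presheaf.germ U x hx (f.appLE V U hle a)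
    rw [Scheme.Hom.germ_stalkMap_apply f V x (hle hx) a]
    exact (X.presheaf.germ_res_apply (homOfLE hle) x hx _).symm
  rw [← hbr] at h3
  exact h3

/-- Associated primes of the fibre give relatively associated points. -/
theorem mem_relAss_of_assoc {F : X.Modules} (hF : Coh.IsQCoh F) {x : X} (hx : x ∈ U) :
    letI : Algebra Γ(S, V) Γ(X, U) := (f.appLE V U hle).hom.toAlgebra
    letI : Module Γ(S, V) Γ(F, U) := Module.compHom _ (f.appLE V U hle).hom
    haveI : IsScalarTower Γ(S, V) Γ(X, U) Γ(F, U) := IsScalarTower.of_algebraMap_smul fun _ _ => rfl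
    FlatCA.fiberIdeal (hV.primeIdealOf ⟨f x, hle hx⟩).asIdeal (hU.primeIdealOf ⟨x, hx⟩).asIdeal ∈
      associatedPrimes ((hV.primeIdealOf ⟨f x, hle hx⟩).asIdeal.Fiber Γ(X, U))
        (FlatCA.fiberMod (hV.primeIdealOf ⟨f x, hle hx⟩).asIdeal Γ(X, U) Γ(F, U)) →
      x ∈ MoreMor.relAss f F := by
  letI : Algebra Γ(S, V) Γ(X, U) := (f.appLE V U hle).hom.toAlgebra
  letI : Module Γ(S, V) Γ(F, U) := Module.compHom _ (f.appLE V U hle).hom
  haveI : IsScalarTower Γ(S, V) Γ(X, U) Γ(F, U) := IsScalarTower.of_algebraMap_smul fun _ _ => rfl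
  intro h
  have hp : (hU.primeIdealOf ⟨x, hx⟩).asIdeal.comap (algebraMap Γ(S, V) Γ(X, U)) =
      (hV.primeIdealOf ⟨f x, hle hx⟩).asIdeal :=
    congrArg PrimeSpectrum.asIdeal (IsAffineOpen.comap_primeIdealOf_appLE V hV U hU hle hx)
  haveI : (hU.primeIdealOf ⟨x, hx⟩).asIdeal.LiesOver (hV.primeIdealOf ⟨f x, hle hx⟩).asIdeal := ⟨hp.symm⟩
  obtain ⟨n, h1, h2⟩ := exists_witness _ _ h
  exact mem_relAss_of_witness f hU hV hle hF hx n h1 h2

include hU hV hle in
/-- Flatness passes to generisations. -/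
theorem isFlatOverAt_of_specializes_chart {F : X.Modules} (hF : Coh.IsQCoh F) {x z : X} (hx : x ∈ U) (hz : z ⤳ x)
    (h : FlatMod.IsFlatOverAt f F x) : FlatMod.IsFlatOverAt f F z := by
  have hzU : z ∈ U := hz.mem_open U.2 hx
  letI : Algebra Γ(S, V) Γ(X, U) := (f.appLE V U hle).hom.toAlgebra
  letI : Module Γ(S, V) Γ(F, U) := Module.compHom _ (f.appLE V U hle).hom
  haveI : IsScalarTower Γ(S, V) Γ(X, U) Γ(F, U) := IsScalarTower.of_algebraMap_smul fun _ _ => rfl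
  have hq := (RelAssGen.specializes_iff_prime_le hU hx hzU).1 hz
  refine (isFlatOverAt_iff_flatAt f hU hV hle hF hzU).2 ?_
  exact RG.flat_localized_of_dvd (W := (hU.primeIdealOf ⟨x, hx⟩).asIdeal.primeCompl)
    (V := (hU.primeIdealOf ⟨z, hzU⟩).asIdeal.primeCompl)
    (fun w (hw : w ∉ (hU.primeIdealOf ⟨x, hx⟩).asIdeal) => ⟨w, fun h1 => hw (hq h1), dvd_rfl⟩)
    ((isFlatOverAt_iff_flatAt f hU hV hle hF hx).1 h)

/-- Flatness passes to generisations. -/
theorem isFlatOverAt_of_specializes {F : X.Modules} (hF : Coh.IsQCoh F) {x z : X} (hz : z ⤳ x)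
    (h : FlatMod.IsFlatOverAt f F x) : FlatMod.IsFlatOverAt f F z := by
  obtain ⟨_, ⟨V, hV, rfl⟩, hxV, -⟩ := S.isBasis_affineOpens.exists_subset_of_mem_open (Set.mem_univ (f x)) isOpen_univ
  obtain ⟨_, ⟨U, hU, rfl⟩, hxU, hUV⟩ :=
    X.isBasis_affineOpens.exists_subset_of_mem_open (show x ∈ (f ⁻¹ᵁ V : X.Opens) from hxV) (f ⁻¹ᵁ V).2
  exact isFlatOverAt_of_specializes_chart f hU hV hUV hF hxU hz h

/-- Flatness at a point from the relatively associated points of its fibre specialising to it. -/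
theorem isFlatOverAt_of_relAss [LocallyOfFiniteType f] {F : X.Modules} (hF : Coh.IsQCoh F) (hft : CohB1.IsFT F) (x : X)
    (h : ∀ z, z ∈ MoreMor.relAss f F → z ⤳ x → f z = f x → FlatMod.IsFlatOverAt f F z) :
    FlatMod.IsFlatOverAt f F x := by
  obtain ⟨_, ⟨V, hV, rfl⟩, hxV, -⟩ := S.isBasis_affineOpens.exists_subset_of_mem_open (Set.mem_univ (f x)) isOpen_univ
  obtain ⟨_, ⟨U, hU, rfl⟩, hxU, hUV⟩ :=
    X.isBasis_affineOpens.exists_subset_of_mem_open (show x ∈ (f ⁻¹ᵁ V : X.Opens) from hxV) (f ⁻¹ᵁ V).2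
  replace hU : IsAffineOpen U := hU
  replace hV : IsAffineOpen V := hV
  replace hUV : U ≤ f ⁻¹ᵁ V := hUV
  letI : Algebra Γ(S, V) Γ(X, U) := (f.appLE V U hUV).hom.toAlgebra
  letI : Module Γ(S, V) Γ(F, U) := Module.compHom _ (f.appLE V U hUV).hom
  haveI : IsScalarTower Γ(S, V) Γ(X, U) Γ(F, U) := IsScalarTower.of_algebraMap_smul fun _ _ => rfl
  haveI : Algebra.FiniteType Γ(S, V) Γ(X, U) := f.finiteType_appLE hV hU hUV
  haveI : Module.Finite Γ(X, U) Γ(F, U) := QCoh.finite_of_isFT hF hft hU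
  have hp : ∀ (z : X) (hz : z ∈ U), (hU.primeIdealOf ⟨z, hz⟩).asIdeal.comap (algebraMap Γ(S, V) Γ(X, U)) =
      (hV.primeIdealOf ⟨f z, hUV hz⟩).asIdeal := fun z hz =>
    congrArg PrimeSpectrum.asIdeal (IsAffineOpen.comap_primeIdealOf_appLE V hV U hU hUV hz)
  haveI : (hU.primeIdealOf ⟨x, hxU⟩).asIdeal.LiesOver (hV.primeIdealOf ⟨f x, hUV hxU⟩).asIdeal := ⟨(hp x hxU).symm⟩
  refine (isFlatOverAt_iff_flatAt f hU hV hUV hF hxU).2
    (RG.flatAt_of_assoc _ (hV.primeIdealOf ⟨f x, hUV hxU⟩).asIdeal _ fun q' hq' hle' hover hass => ?_)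
  obtain ⟨z, hz, hzP⟩ := QCoh.exists_point hU ⟨q', hq'⟩
  have e : (hU.primeIdealOf ⟨z, hz⟩).asIdeal = q' := congrArg PrimeSpectrum.asIdeal hzP
  subst e
  have hfz : f z = f x := by
    have h2 := congrArg hV.fromSpec (PrimeSpectrum.ext ((hp z hz).symm.trans hover.over.symm))
    rwa [hV.fromSpec_primeIdealOf, hV.fromSpec_primeIdealOf] at h2
  refine (isFlatOverAt_iff_flatAt f hU hV hUV hF hz).1
    (h z (mem_relAss_of_assoc f hU hV hUV hF hz ?_) ((RelAssGen.specializes_iff_prime_le hU hxU hz).2 hle') hfz)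
  have e2 : hV.primeIdealOf ⟨f z, hUV hz⟩ = hV.primeIdealOf ⟨f x, hUV hxU⟩ := by congr
  exact Eq.mpr (by rw [e2]) hass

/-- Near a point of flatness, flatness holds along the fibre. -/
theorem exists_open_flat_in_fibre [LocallyOfFiniteType f] {F : X.Modules} (hF : Coh.IsQCoh F) (hft : CohB1.IsFT F)
    (x : X) (h : FlatMod.IsFlatOverAt f F x) :
    ∃ W : Set X, IsOpen W ∧ x ∈ W ∧ ∀ w ∈ W, f w = f x → FlatMod.IsFlatOverAt f F w := by
  classical
  obtain ⟨_, ⟨V, hV, rfl⟩, hxV, -⟩ := S.isBasis_affineOpens.exists_subset_of_mem_open (Set.mem_univ (f x)) isOpen_univ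
  obtain ⟨_, ⟨U, hU, rfl⟩, hxU, hUV⟩ :=
    X.isBasis_affineOpens.exists_subset_of_mem_open (show x ∈ (f ⁻¹ᵁ V : X.Opens) from hxV) (f ⁻¹ᵁ V).2
  replace hU : IsAffineOpen U := hU
  replace hV : IsAffineOpen V := hV
  replace hUV : U ≤ f ⁻¹ᵁ V := hUV
  letI : Algebra Γ(S, V) Γ(X, U) := (f.appLE V U hUV).hom.toAlgebra
  letI : Module Γ(S, V) Γ(F, U) := Module.compHom _ (f.appLE V U hUV).hom
  haveI : IsScalarTower Γ(S, V) Γ(X, U) Γ(F, U) := IsScalarTower.of_algebraMap_smul fun _ _ => rfl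
  haveI : Algebra.FiniteType Γ(S, V) Γ(X, U) := f.finiteType_appLE hV hU hUV
  haveI : Module.Finite Γ(X, U) Γ(F, U) := QCoh.finite_of_isFT hF hft hU
  let p := (hV.primeIdealOf ⟨f x, hUV hxU⟩).asIdeal
  haveI : IsNoetherianRing (p.Fiber Γ(X, U)) := Algebra.FiniteType.isNoetherianRing p.ResidueField _
  haveI := ZClosLib.NzdUnivInj.finite_fiberMod p (S := Γ(X, U)) Γ(F, U)
  have hfin := associatedPrimes.finite (p.Fiber Γ(X, U)) (FlatCA.fiberMod p Γ(X, U) Γ(F, U))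
  let Q : Set (Ideal Γ(X, U)) :=
    (fun r => r.comap (algebraMap Γ(X, U) (p.Fiber Γ(X, U)))) '' associatedPrimes (p.Fiber Γ(X, U))
      (FlatCA.fiberMod p Γ(X, U) Γ(F, U))
  let B : Set X := {z | ∃ hz : z ∈ U, (hU.primeIdealOf ⟨z, hz⟩).asIdeal ∈ Q ∧ ¬ FlatMod.IsFlatOverAt f F z}
  have hB : B.Finite := by
    refine (hfin.image (fun r => r.comap (algebraMap Γ(X, U) (p.Fiber Γ(X, U))))).of_injOn
      (f := fun z => if hz : z ∈ U then (hU.primeIdealOf ⟨z, hz⟩).asIdeal else ⊥) ?_ ?_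
    · rintro z ⟨hz, hQ, -⟩
      simpa [dif_pos hz, Q] using hQ
    · rintro z ⟨hz, -, -⟩ z' ⟨hz', -, -⟩ he
      simp only [dif_pos hz, dif_pos hz'] at he
      have h2 := congrArg hU.fromSpec (PrimeSpectrum.ext he)
      rwa [hU.fromSpec_primeIdealOf, hU.fromSpec_primeIdealOf] at h2
  refine ⟨(U : Set X) ∩ (⋃ z ∈ B, closure ({z} : Set X))ᶜ,
    U.2.inter (hB.isClosed_biUnion fun z _ => isClosed_closure).isOpen_compl, ⟨hxU, ?_⟩, ?_⟩
  · simp only [Set.mem_compl_iff, Set.mem_iUnion, not_exists]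
    rintro z ⟨hz, -, hzflat⟩ hzx
    exact hzflat (isFlatOverAt_of_specializes f hF (specializes_iff_mem_closure.2 hzx) h)
  rintro w ⟨hwU, hw⟩ hfw
  have hp : ∀ (z : X) (hz : z ∈ U), (hU.primeIdealOf ⟨z, hz⟩).asIdeal.comap (algebraMap Γ(S, V) Γ(X, U)) =
      (hV.primeIdealOf ⟨f z, hUV hz⟩).asIdeal := fun z hz =>
    congrArg PrimeSpectrum.asIdeal (IsAffineOpen.comap_primeIdealOf_appLE V hV U hU hUV hz)
  have e2 : hV.primeIdealOf ⟨f w, hUV hwU⟩ = hV.primeIdealOf ⟨f x, hUV hxU⟩ := by congr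
  haveI : (hU.primeIdealOf ⟨w, hwU⟩).asIdeal.LiesOver p :=
    ⟨((hp w hwU).trans (congrArg PrimeSpectrum.asIdeal e2)).symm⟩
  refine (isFlatOverAt_iff_flatAt f hU hV hUV hF hwU).2
    (RG.flatAt_of_assoc _ p _ fun q' hq' hle' hover hass => ?_)
  obtain ⟨z, hz, hzP⟩ := QCoh.exists_point hU ⟨q', hq'⟩
  have e : (hU.primeIdealOf ⟨z, hz⟩).asIdeal = q' := congrArg PrimeSpectrum.asIdeal hzP
  subst e
  refine (isFlatOverAt_iff_flatAt f hU hV hUV hF hz).1 ?_
  by_contra hzflat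
  simp only [Set.mem_compl_iff, Set.mem_iUnion, not_exists] at hw
  refine hw z ⟨hz, ⟨_, hass, ?_⟩, hzflat⟩
    (specializes_iff_mem_closure.1 ((RelAssGen.specializes_iff_prime_le hU hwU hz).2 hle'))
  obtain ⟨⟨r, hr⟩, hrq⟩ := ZClosLib.NzdUnivInj.exists_prime_fiber p (hU.primeIdealOf ⟨z, hz⟩).asIdeal
  rw [← ZClosLib.FibAssIdeal.eq_fiberIdeal p hrq]
  exact hrq

end Groth.Agent.FlatAssoc
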