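import Groth.Agent.FlatAssoc.Basic
import Groth.Agent.RG.Devissage
import Groth.Agent.RG.ElemFlat
import Groth.Agent.QCoh.PullbackBC
import Mathlib.AlgebraicGeometry.Morphisms.Flat

/-!
Descent of flatness at a point along a flat morphism of sources.
-/

set_option autoImplicit false
set_option linter.style.haveILetI false
set_option linter.unusedSectionVars false
set_option backward.isDefEq.respectTransparency false
set_option backward.isDefEq.respectTransparency.types false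

universe u

open CategoryTheory AlgebraicGeometry TensorProduct

namespace Groth.Agent.FlatAssoc

/-- Flatness at a point descends along a flat morphism on the source. -/
theorem isFlatOverAt_of_pullback {X' X S : Scheme.{u}} (m : X' ⟶ X) [Flat m] (q : X ⟶ S) {F : X.Modules}
    (hF : Coh.IsQCoh F) (z : X') (h : FlatMod.IsFlatOverAt (m ≫ q) ((Scheme.Modules.pullback m).obj F) z) :
    FlatMod.IsFlatOverAt q F (m z) := by
  obtain ⟨_, ⟨V, hV, rfl⟩, hxV, -⟩ := S.isBasis_affineOpens.exists_subset_of_mem_open (Set.mem_univ (q (m z))) isOpen_univ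
  obtain ⟨_, ⟨U, hU, rfl⟩, hxU, hUV⟩ :=
    X.isBasis_affineOpens.exists_subset_of_mem_open (show m z ∈ (q ⁻¹ᵁ V : X.Opens) from hxV) (q ⁻¹ᵁ V).2
  obtain ⟨_, ⟨W, hW, rfl⟩, hzW, hWU⟩ :=
    X'.isBasis_affineOpens.exists_subset_of_mem_open (show z ∈ (m ⁻¹ᵁ U : X'.Opens) from hxU) (m ⁻¹ᵁ U).2
  replace hU : IsAffineOpen U := hU
  replace hV : IsAffineOpen V := hV
  replace hW : IsAffineOpen W := hW
  replace hUV : U ≤ q ⁻¹ᵁ V := hUV
  replace hWU : W ≤ m ⁻¹ᵁ U := hWU
  replace hxU : m z ∈ U := hxU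
  replace hzW : z ∈ W := hzW
  have hWV : W ≤ (m ≫ q) ⁻¹ᵁ V := fun w hw => hUV (hWU hw)
  let N := (Scheme.Modules.pullback m).obj F
  letI : Algebra Γ(S, V) Γ(X, U) := (q.appLE V U hUV).hom.toAlgebra
  letI : Module Γ(S, V) Γ(F, U) := Module.compHom _ (q.appLE V U hUV).hom
  haveI : IsScalarTower Γ(S, V) Γ(X, U) Γ(F, U) := .of_algebraMap_smul fun _ _ => rfl
  letI : Algebra Γ(X, U) Γ(X', W) := (m.appLE U W hWU).hom.toAlgebra
  letI : Algebra Γ(S, V) Γ(X', W) := ((m ≫ q).appLE V W hWV).hom.toAlgebra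
  haveI : IsScalarTower Γ(S, V) Γ(X, U) Γ(X', W) := .of_algebraMap_eq fun r =>
    (congr($(Scheme.Hom.appLE_comp_appLE m q V U W hUV hWU).hom r)).symm
  haveI : Module.Flat Γ(X, U) Γ(X', W) := Scheme.Hom.flat_appLE m hU hW hWU
  letI : Module Γ(X, U) Γ(N, W) := Module.compHom _ (m.appLE U W hWU).hom
  haveI : IsScalarTower Γ(X, U) Γ(X', W) Γ(N, W) := .of_algebraMap_smul fun _ _ => rfl
  letI : Module Γ(S, V) Γ(N, W) := Module.compHom _ ((m ≫ q).appLE V W hWV).hom
  haveI : IsScalarTower Γ(S, V) Γ(X', W) Γ(N, W) := .of_algebraMap_smul fun _ _ => rfl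
  let l : Γ(F, U) →ₗ[Γ(X, U)] Γ(N, W) :=
    { toFun := QCoh.pullSec m F hWU
      map_add' := QCoh.pullSec_add m F hWU
      map_smul' := fun r x => QCoh.pullSec_smul m F hWU r x }
  have hb : IsBaseChange Γ(X', W) l :=
    QCoh.isBaseChange_pullback hU m hW hF hWU (fun _ => rfl) l fun _ => rfl
  refine (isFlatOverAt_iff_flatAt q hU hV hUV hF hxU).2 ?_
  have hN : FlatCA.FlatAt Γ(S, V) (hW.primeIdealOf ⟨z, hzW⟩).asIdeal Γ(N, W) :=
    (isFlatOverAt_iff_flatAt (m ≫ q) hW hV hWV (QCoh.isQCoh_pullback m hF) hzW).1 h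
  refine RG.flatAt_of_baseChange (hW.primeIdealOf ⟨z, hzW⟩).asIdeal _
    ⟨(congrArg PrimeSpectrum.asIdeal (IsAffineOpen.comap_primeIdealOf_appLE U hU W hW hWU hzW)).symm⟩ ?_
  exact RG.flatAt_congr _ hb.equiv.symm hN

end Groth.Agent.FlatAssoc
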