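import Groth.Agent.UnivInjMod.Main
import Mathlib.RingTheory.Valuation.ValuationRing
import Mathlib.RingTheory.Flat.TorsionFree
import Mathlib.RingTheory.Nakayama
import Mathlib.RingTheory.Localization.FractionRing
import Mathlib.Algebra.Module.FinitePresentation

/-!
Associated points of the generic fibre specialise to associated points of the special fibre over a
valuation ring, at points of flatness.
-/

set_option autoImplicit false
set_option linter.style.haveILetI false
set_option linter.unusedSectionVars false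
set_option backward.isDefEq.respectTransparency false

universe u

open IsLocalRing

namespace Groth.Agent.FlatAssoc

/-- An element with radical annihilator at `Q` has a multiple killed by finitely many elements of `Q`. -/
theorem exists_multiple_killed {B M : Type u} [CommRing B] [AddCommGroup M] [Module B M] (Q : Ideal B) [Q.IsPrime]
    (m : M) (hm : ∀ s, s ∉ Q → s • m ≠ 0) (hann : ∀ b ∈ Q, ∃ t, t ∉ Q ∧ ∃ k : ℕ, (t * b ^ k) • m = 0)
    (G : Finset B) (hG : ∀ g ∈ G, g ∈ Q) :
    ∃ a : B, (∀ s, s ∉ Q → (s * a) • m ≠ 0) ∧ ∀ g ∈ G, (g * a) • m = 0 := by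
  classical
  induction G using Finset.induction with
  | empty => exact ⟨1, fun s hs => by rw [mul_one]; exact hm s hs, by simp⟩
  | insert g G _ ih =>
    obtain ⟨a, ha, haG⟩ := ih fun x hx => hG x (Finset.mem_insert_of_mem hx)
    have hex : ∃ k : ℕ, ∃ t, t ∉ Q ∧ (t * g ^ k * a) • m = 0 := by
      obtain ⟨t, ht, k, hk⟩ := hann g (hG g (Finset.mem_insert_self g G))
      exact ⟨k, t, ht, by rw [mul_comm, mul_smul, hk, smul_zero]⟩
    obtain ⟨t, ht, hk⟩ := Nat.find_spec hex
    rcases hk0 : Nat.find hex with _ | j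
    · rw [hk0, pow_zero, mul_one] at hk
      exact absurd hk (ha t ht)
    rw [hk0] at hk
    refine ⟨t * g ^ j * a, fun s hs h => ?_, fun x hx => ?_⟩
    · exact Nat.find_min hex (show j < Nat.find hex by omega) ⟨s * t, fun hst =>
        (Ideal.IsPrime.mem_or_mem inferInstance hst).elim hs ht, by rw [← h]; congr 1; ring⟩
    · rcases Finset.mem_insert.1 hx with rfl | hx
      · rw [← hk]
        congr 1
        ring
      · rw [show x * (t * g ^ j * a) = (t * g ^ j) * (x * a) by ring, mul_smul, haG x hx, smul_zero]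

/-- Elements of the extension of the maximal ideal of a valuation ring are multiples by a scalar in it. -/
theorem exists_eq_smul_of_mem {V L : Type u} [CommRing V] [IsDomain V] [ValuationRing V] [AddCommGroup L] [Module V L]
    {x : L} (hx : x ∈ maximalIdeal V • (⊤ : Submodule V L)) : ∃ c ∈ maximalIdeal V, ∃ l : L, x = c • l := by
  refine Submodule.smul_induction_on hx (fun c hc l _ => ⟨c, hc, l, rfl⟩) ?_
  rintro _ _ ⟨c, hc, l, rfl⟩ ⟨c', hc', l', rfl⟩
  rcases ValuationRing.dvd_total c c' with ⟨d, rfl⟩ | ⟨d, rfl⟩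
  · exact ⟨c, hc, l + d • l', by rw [smul_add, smul_smul]⟩
  · exact ⟨c', hc', d • l + l', by rw [smul_add, smul_smul]⟩

/-- The witness for association of a special point below an associated point of the generic fibre. -/
theorem exists_special_witness {V B Bl M L : Type u} [CommRing V] [IsDomain V] [ValuationRing V] [CommRing B]
    [Algebra V B] [Algebra.FiniteType V B] [CommRing Bl] [IsLocalRing Bl] [Algebra B Bl] [Algebra V Bl]
    [IsScalarTower V B Bl] (P : Ideal B) [P.IsPrime] [IsLocalization.AtPrime Bl P]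
    [AddCommGroup M] [Module B M] [Module.Finite B M] [Module V M] [IsScalarTower V B M]
    [AddCommGroup L] [Module B L] [Module Bl L] [IsScalarTower B Bl L] [Module V L] [IsScalarTower V B L]
    (φ : M →ₗ[B] L) [IsLocalizedModule P.primeCompl φ] [Module.Flat V L]
    (hPV : P.comap (algebraMap V B) = maximalIdeal V)
    (Q : Ideal B) [Q.IsPrime] (hQP : Q ≤ P) (hQV : Q.comap (algebraMap V B) = ⊥)
    (hmin : ∀ r : Ideal B, r.IsPrime → Q ≤ r → r ≤ P → r.comap (algebraMap V B) = maximalIdeal V → r = P)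
    (m : M) (hann : ∀ b ∈ Q, ∃ t, t ∉ Q ∧ ∃ k : ℕ, (t * b ^ k) • m = 0) (hm : ∀ s, s ∉ Q → s • m ≠ 0) :
    ∃ m' : M, (∀ s, s ∉ P → s • m' ∉ maximalIdeal V • (⊤ : Submodule V M)) ∧
      ∀ r : Ideal B, r.IsPrime → r ≤ P → (∀ b, b • m' ∈ maximalIdeal V • (⊤ : Submodule V M) → b ∈ r) → r = P := by
  classical
  -- finitely many elements generate the generic point
  let U := Algebra.algebraMapSubmonoid B (nonZeroDivisors V)
  let BK := Localization U
  let K := FractionRing V
  have hVu : ∀ c : nonZeroDivisors V, IsUnit (algebraMap V BK c) := fun c => by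
    rw [IsScalarTower.algebraMap_apply V B BK]
    exact IsLocalization.map_units BK (⟨_, c, c.2, rfl⟩ : U)
  letI : Algebra K BK := (IsLocalization.lift hVu).toAlgebra
  haveI : IsScalarTower V K BK := IsScalarTower.of_algebraMap_eq fun c => (IsLocalization.lift_eq hVu c).symm
  haveI : Algebra.EssFiniteType B BK := Algebra.EssFiniteType.of_isLocalization _ U
  haveI : Algebra.EssFiniteType V BK := Algebra.EssFiniteType.comp V B BK
  haveI : Algebra.EssFiniteType K BK := Algebra.EssFiniteType.of_comp V K BK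
  haveI : IsNoetherianRing BK := Algebra.EssFiniteType.isNoetherianRing K BK
  obtain ⟨G₀, hG₀, hspan⟩ := (Submodule.fg_span_iff_fg_span_finset_subset _).1
    (show (Submodule.span BK (algebraMap B BK '' (Q : Set B))).FG from IsNoetherian.noetherian _)
  obtain ⟨G, hG, rfl⟩ := Finset.subset_set_image_iff.1 hG₀
  have hQ : ∀ b ∈ Q, ∃ c : V, c ≠ 0 ∧ c • b ∈ Ideal.span (G : Set B) := by
    intro b hb
    have h1 : algebraMap B BK b ∈ (Ideal.span (G : Set B)).map (algebraMap B BK) := by
      rw [Ideal.map_span, ← Finset.coe_image]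
      exact hspan.le (Submodule.subset_span ⟨b, hb, rfl⟩)
    obtain ⟨_, ⟨c, hc, rfl⟩, hu⟩ := (IsLocalization.algebraMap_mem_map_algebraMap_iff U BK _ _).1 h1
    exact ⟨c, nonZeroDivisors.ne_zero hc, by rwa [Algebra.smul_def]⟩
  obtain ⟨a, ha, haG⟩ := exists_multiple_killed Q m hm hann G fun g hg => hG hg
  have htf : ∀ (c : V) (x : L), c ≠ 0 → c • x = 0 → x = 0 := fun c x hc h =>
    (smul_eq_zero.1 h).resolve_left hc
  have hkill : ∀ x : L, (∀ g ∈ G, g • x = 0) → ∀ b ∈ Q, b • x = 0 := by
    intro x hx b hb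
    obtain ⟨c, hc, hcb⟩ := hQ b hb
    refine htf c _ hc ?_
    rw [← smul_assoc]
    refine Submodule.span_induction (p := fun y _ => y • x = 0) hx (zero_smul B x) (fun y z _ _ hy hz => ?_)
      (fun y z _ hz => ?_) hcb
    · rw [add_smul, hy, hz, add_zero]
    · rw [smul_eq_mul, mul_smul, hz, smul_zero]
  have hn₁ : φ (a • m) ≠ 0 := fun h => by
    obtain ⟨⟨t, ht⟩, hta⟩ := (IsLocalizedModule.eq_zero_iff P.primeCompl φ).1 h
    exact ha t (fun h' => ht (hQP h')) (by rw [mul_smul]; exact hta)
  -- the local ring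
  haveI : Algebra.EssFiniteType B Bl := Algebra.EssFiniteType.of_isLocalization _ P.primeCompl
  haveI : Algebra.EssFiniteType V Bl := Algebra.EssFiniteType.comp V B Bl
  haveI : Module.Finite Bl L := Module.Finite.of_isLocalizedModule P.primeCompl φ
  haveI : IsScalarTower V Bl L := IsScalarTower.of_algebraMap_smul fun c x => by
    rw [IsScalarTower.algebraMap_apply V B Bl, algebraMap_smul, algebraMap_smul]
  have hloc : (maximalIdeal Bl).comap (algebraMap V Bl) = maximalIdeal V := by
    rw [IsScalarTower.algebraMap_eq V B Bl, ← Ideal.comap_comap,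
      show (maximalIdeal Bl).comap (algebraMap B Bl) = P from IsLocalization.AtPrime.under_maximalIdeal Bl P, hPV]
  haveI : IsLocalHom (algebraMap V Bl) :=
    ((local_hom_TFAE (algebraMap V Bl)).out 0 4).2 hloc
  -- elements killed by the generic point
  let ψ : L →ₗ[Bl] (G → L) := LinearMap.pi fun g => algebraMap B Bl (g : B) • LinearMap.id
  let C := LinearMap.range ψ
  haveI : Module.Flat V C := by
    rw [Module.Flat.flat_iff_torsion_eq_bot_of_isBezout, eq_bot_iff]
    rintro x ⟨⟨c, hc⟩, hcx⟩
    rw [Submodule.mem_bot]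
    refine Subtype.ext (funext fun g => htf c _ (nonZeroDivisors.ne_zero hc) ?_)
    exact congrFun (congrArg Subtype.val hcx) g
  haveI : Module.FinitePresentation Bl C :=
    (UnivInjMod.flat_fp_injective (A := V) (LinearMap.id : C →ₗ[Bl] C) fun _ h => h).2.1
  have hN : (LinearMap.ker ψ).FG := by
    rw [← LinearMap.ker_rangeRestrict]
    exact Module.FinitePresentation.fg_ker ψ.rangeRestrict ψ.surjective_rangeRestrict
  have hmemN : ∀ x : L, x ∈ LinearMap.ker ψ ↔ ∀ g ∈ G, g • x = 0 := fun x => by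
    rw [LinearMap.mem_ker, funext_iff]
    refine ⟨fun h g hg => ?_, fun h g => ?_⟩
    · simpa [ψ, algebraMap_smul] using h ⟨g, hg⟩
    · simpa [ψ, algebraMap_smul] using h g g.2
  have hne : LinearMap.ker ψ ≠ ⊥ := fun h => hn₁ (by
    refine (Submodule.mem_bot Bl).1 (h ▸ (hmemN _).2 fun g hg => ?_)
    rw [← map_smul, smul_smul, haG g hg, map_zero])
  obtain ⟨l, hl, hlm⟩ : ∃ l ∈ LinearMap.ker ψ, l ∉ maximalIdeal V • (⊤ : Submodule V L) := by
    by_contra hc
    push Not at hc
    refine hne (Submodule.eq_bot_of_le_smul_of_le_jacobson_bot (maximalIdeal Bl) _ hN (fun x hx => ?_)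
      (IsLocalRing.maximalIdeal_le_jacobson _))
    obtain ⟨c, hc', y, rfl⟩ := exists_eq_smul_of_mem (hc x hx)
    rcases eq_or_ne c 0 with rfl | hc0
    · rw [zero_smul]; exact zero_mem _
    · rw [← algebraMap_smul Bl c y]
      refine Submodule.smul_mem_smul (Ideal.mem_comap.1 (hloc.ge hc')) ((hmemN y).2 fun g hg => htf c _ hc0 ?_)
      rw [smul_comm]
      exact (hmemN _).1 hx g hg
  obtain ⟨⟨m', s⟩, hms⟩ := IsLocalizedModule.surj P.primeCompl φ l
  have hm'm : φ m' ∉ maximalIdeal V • (⊤ : Submodule V L) := fun h => by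
    rw [← hms, Submonoid.smul_def, ← algebraMap_smul Bl (s : B), UnivInjMod.mem_smul_top_iff (B := Bl),
      Submodule.smul_mem_iff_of_isUnit _ (IsLocalization.map_units Bl s), ← UnivInjMod.mem_smul_top_iff] at h
    exact hlm h
  have hm'Q : ∀ b ∈ Q, φ (b • m') = 0 := fun b hb => by
    rw [map_smul, ← hms, Submonoid.smul_def, smul_comm, hkill l ((hmemN l).1 hl) b hb, smul_zero]
  refine ⟨m', fun t ht hmem => hm'm ?_, fun r hr hrP hann' => hmin r hr (fun b hb => ?_) hrP ?_⟩
  · have h1 : φ (t • m') ∈ maximalIdeal V • (⊤ : Submodule V L) :=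
      UnivInjMod.map_smul_top_mem (φ.restrictScalars V) _ hmem
    rwa [map_smul, ← algebraMap_smul Bl t, UnivInjMod.mem_smul_top_iff (B := Bl),
      Submodule.smul_mem_iff_of_isUnit _ (IsLocalization.map_units Bl (⟨t, ht⟩ : P.primeCompl)),
      ← UnivInjMod.mem_smul_top_iff] at h1
  · obtain ⟨⟨t, ht⟩, htb⟩ := (IsLocalizedModule.eq_zero_iff P.primeCompl φ).1 (hm'Q b hb)
    refine (hr.mem_or_mem (hann' (t * b) ?_)).resolve_left fun h => ht (hrP h)
    rw [mul_smul, show t • b • m' = 0 from htb]
    exact zero_mem _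
  · refine le_antisymm ?_ fun c hc => hann' _ ?_
    · rw [← hPV]
      exact Ideal.comap_mono hrP
    · rw [algebraMap_smul]
      exact Submodule.smul_mem_smul hc trivial

end Groth.Agent.FlatAssoc
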