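import Groth.Agent.FlatAssoc.Basic
import Groth.Agent.FlatAssoc.ValCore
import Groth.Agent.FibDim.GenerizeDim
import Groth.Agent.MorLib.FlatBC
import Groth.Agent.RelAssBC.Basic
import Groth.Agent.QCoh.RpushStalk
import Groth.Agent.Proj16.DVRPath

/-!
Relatively associated points specialise to relatively associated points of the same relative dimension,
at generic points of their specialisations where the module is flat.
-/

set_option autoImplicit false
set_option linter.style.haveILetI false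
set_option linter.unusedSectionVars false
set_option backward.isDefEq.respectTransparency false
set_option backward.isDefEq.respectTransparency.types false

universe u

open CategoryTheory CategoryTheory.Limits AlgebraicGeometry IsLocalRing

namespace Groth.Agent.FlatAssoc

/-- A valuation ring joining a specialisation. -/
theorem exists_valuation_path {X : Scheme.{u}} {x y : X} (h : y ⤳ x) :
    ∃ (A : Type u) (_ : CommRing A) (_ : IsDomain A) (_ : ValuationRing A) (τ : Spec (CommRingCat.of A) ⟶ X),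
      τ (closedPoint A) = x ∧ τ (⟨⊥, Ideal.isPrime_bot⟩ : PrimeSpectrum A) = y := by
  have hsp : (𝟙 X : X ⟶ X) y ⤳ x := h
  obtain ⟨A, hA, hloc⟩ := IsLocalRing.exists_factor_valuationRing (Proj16.specMapResidue hsp).hom
  obtain ⟨τ, hcl, hgen⟩ := Proj16.exists_path hsp A hA hloc
  refine ⟨A, inferInstance, inferInstance, inferInstance, τ, hcl, ?_⟩
  have h1 : (⟨⊥, Ideal.isPrime_bot⟩ : PrimeSpectrum A) =
      Spec.map (CommRingCat.ofHom A.subtype) (closedPoint (X.residueField y)) := by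
    refine PrimeSpectrum.ext (Ideal.ext fun a => ?_)
    show a ∈ (⊥ : Ideal A) ↔ A.subtype a ∈ maximalIdeal (X.residueField y)
    rw [IsLocalRing.maximalIdeal_eq_bot, Ideal.mem_bot, Ideal.mem_bot]
    exact (map_eq_zero_iff A.subtype Subtype.val_injective).symm
  rw [h1]
  show (Spec.map (CommRingCat.ofHom A.subtype) ≫ τ) _ = y
  rw [hgen, Category.comp_id]
  exact Scheme.fromSpecResidueField_apply _ _

/-- Over a valuation ring, generic associated points specialise to associated points. -/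
theorem relAss_of_valuationRing {A : Type u} [CommRing A] [IsDomain A] [ValuationRing A] {X : Scheme.{u}}
    (q : X ⟶ Spec (CommRingCat.of A)) [LocallyOfFiniteType q] (G : X.Modules) (hG : Coh.IsQCoh G)
    (hGft : CohB1.IsFT G) (y x : X) (hyx : y ⤳ x) (hy : y ∈ MoreMor.relAss q G)
    (hqy : q y = (⟨⊥, Ideal.isPrime_bot⟩ : PrimeSpectrum A)) (hqx : q x = closedPoint A)
    (hmin : ∀ z, y ⤳ z → z ⤳ x → q z = q x → z = x) (hflat : FlatMod.IsFlatOverAt q G x) :
    x ∈ MoreMor.relAss q G := by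
  let S := Spec (CommRingCat.of A)
  let V : S.Opens := ⊤
  have hV : IsAffineOpen V := isAffineOpen_top S
  obtain ⟨_, ⟨U, hU, rfl⟩, hxU, hUV⟩ :=
    X.isBasis_affineOpens.exists_subset_of_mem_open (show x ∈ (q ⁻¹ᵁ V : X.Opens) from trivial) (q ⁻¹ᵁ V).2
  replace hU : IsAffineOpen U := hU
  replace hUV : U ≤ q ⁻¹ᵁ V := hUV
  replace hxU : x ∈ U := hxU
  have hyU : y ∈ U := hyx.mem_open U.2 hxU
  let e : Γ(S, V) ≃+* A := (Scheme.ΓSpecIso (CommRingCat.of A)).commRingCatIsoToRingEquiv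
  haveI : IsDomain Γ(S, V) := e.toMulEquiv.isDomain
  haveI : ValuationRing Γ(S, V) := Function.Surjective.valuationRing e.symm.toRingHom e.symm.surjective
  letI : Algebra Γ(S, V) Γ(X, U) := (q.appLE V U hUV).hom.toAlgebra
  letI : Module Γ(S, V) Γ(G, U) := Module.compHom _ (q.appLE V U hUV).hom
  haveI : IsScalarTower Γ(S, V) Γ(X, U) Γ(G, U) := .of_algebraMap_smul fun _ _ => rfl
  haveI : Algebra.FiniteType Γ(S, V) Γ(X, U) := q.finiteType_appLE hV hU hUV
  haveI : Module.Finite Γ(X, U) Γ(G, U) := QCoh.finite_of_isFT hG hGft hU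
  have hp : ∀ (z : X) (hz : z ∈ U), (hU.primeIdealOf ⟨z, hz⟩).asIdeal.comap (algebraMap Γ(S, V) Γ(X, U)) =
      (hV.primeIdealOf ⟨q z, hUV hz⟩).asIdeal := fun z hz =>
    congrArg PrimeSpectrum.asIdeal (IsAffineOpen.comap_primeIdealOf_appLE V hV U hU hUV hz)
  have hfeq : ∀ (z z' : X) (hz : z ∈ U) (hz' : z' ∈ U),
      (hV.primeIdealOf ⟨q z, hUV hz⟩).asIdeal = (hV.primeIdealOf ⟨q z', hUV hz'⟩).asIdeal → q z = q z' := by
    intro z z' hz hz' he
    have h2 := congrArg hV.fromSpec (PrimeSpectrum.ext he)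
    rwa [hV.fromSpec_primeIdealOf, hV.fromSpec_primeIdealOf] at h2
  have hmax : (hV.primeIdealOf ⟨q x, hUV hxU⟩).asIdeal = maximalIdeal Γ(S, V) := by
    have hcl : IsClosed ({q x} : Set S) := by
      rw [hqx]
      exact isClosed_singleton_closedPoint A
    refine eq_maximalIdeal ((PrimeSpectrum.isClosed_singleton_iff_isMaximal _).1 ?_)
    have : hV.fromSpec ⁻¹' {q x} = {hV.primeIdealOf ⟨q x, hUV hxU⟩} := by
      ext w
      rw [Set.mem_preimage, Set.mem_singleton_iff, Set.mem_singleton_iff]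
      refine ⟨fun h => hV.fromSpec.isOpenEmbedding.injective ?_, fun h => ?_⟩
      · rw [hV.fromSpec_primeIdealOf]; exact h
      · rw [h, hV.fromSpec_primeIdealOf]
    rw [← this]
    exact hcl.preimage hV.fromSpec.continuous
  have hbot : (hV.primeIdealOf ⟨q y, hUV hyU⟩).asIdeal = ⊥ := by
    refine le_bot_iff.1 ((RelAssGen.specializes_iff_prime_le hV (x := hV.fromSpec ⟨⊥, Ideal.isPrime_bot⟩)
      (z := q y) trivial trivial).1 ?_ |>.trans (le_of_eq ?_))
    · rw [hqy]
      exact (PrimeSpectrum.le_iff_specializes (⟨⊥, Ideal.isPrime_bot⟩ : PrimeSpectrum A) _).1 bot_le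
    · have h2 : hV.primeIdealOf ⟨hV.fromSpec ⟨⊥, Ideal.isPrime_bot⟩, trivial⟩ = ⟨⊥, Ideal.isPrime_bot⟩ :=
        hV.fromSpec.isOpenEmbedding.injective (hV.fromSpec_primeIdealOf _)
      exact congrArg PrimeSpectrum.asIdeal h2
  let P := (hU.primeIdealOf ⟨x, hxU⟩).asIdeal
  let Q := (hU.primeIdealOf ⟨y, hyU⟩).asIdeal
  have hPV : P.comap (algebraMap Γ(S, V) Γ(X, U)) = maximalIdeal Γ(S, V) := (hp x hxU).trans hmax
  have hQV : Q.comap (algebraMap Γ(S, V) Γ(X, U)) = ⊥ := (hp y hyU).trans hbot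
  obtain ⟨m, hann, hm⟩ : ∃ m : Γ(G, U),
      (∀ b ∈ Q, ∃ t, t ∉ Q ∧ ∃ n : ℕ, (t * b ^ n) • m = 0) ∧ ∀ s, s ∉ Q → s • m ≠ 0 := by
    letI := QCoh.stalkAlg (X := X) (U := U) (x := y) hyU
    letI := QCoh.stalkModule G hyU
    haveI := QCoh.isScalarTower_stalk G hyU
    haveI := QCoh.isLocalization_stalk' hU hyU
    haveI := QCoh.isLocalizedModule_germLin hG hU hyU
    have hbr : Ideal.map (q.stalkMap y).hom (maximalIdeal (S.presheaf.stalk (q y))) =
        ((⊥ : Ideal Γ(S, V)).map (algebraMap Γ(S, V) Γ(X, U))).map (algebraMap Γ(X, U) (X.presheaf.stalk y)) := by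
      letI := QCoh.stalkAlg (X := S) (U := V) (x := q y) (hUV hyU)
      haveI := QCoh.isLocalization_stalk' (x := q y) hV (hUV hyU)
      rw [← hbot, ← IsLocalization.AtPrime.map_eq_maximalIdeal (hV.primeIdealOf ⟨q y, hUV hyU⟩).asIdeal
        (S.presheaf.stalk (q y)), Ideal.map_map, Ideal.map_map]
      congr 1
      refine RingHom.ext fun a => ?_
      show q.stalkMap y (S.presheaf.germ V (q y) (hUV hyU) a) = X.presheaf.germ U y hyU (q.appLE V U hUV a)
      rw [Scheme.Hom.germ_stalkMap_apply q V y (hUV hyU) a]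
      exact (X.presheaf.germ_res_apply (homOfLE hUV) y hyU _).symm
    obtain ⟨m, h1, h2⟩ := RelAssGen.exists_conds_of_isAssociatedPrime (A := Γ(S, V)) (Bl := X.presheaf.stalk y) Q
      (QCoh.germLin G hyU) ⊥ (by rw [← hbr]; exact hy)
    simp only [Submodule.bot_smul, Submodule.mem_bot] at h1 h2
    exact ⟨m, h1, h2⟩
  have hmin' : ∀ r : Ideal Γ(X, U), r.IsPrime → Q ≤ r → r ≤ P →
      r.comap (algebraMap Γ(S, V) Γ(X, U)) = maximalIdeal Γ(S, V) → r = P := by
    intro r hr hQr hrP hrV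
    obtain ⟨z, hz, hzP⟩ := QCoh.exists_point hU ⟨r, hr⟩
    have e : (hU.primeIdealOf ⟨z, hz⟩).asIdeal = r := congrArg PrimeSpectrum.asIdeal hzP
    subst e
    have := hmin z ((RelAssGen.specializes_iff_prime_le hU hz hyU).2 hQr)
      ((RelAssGen.specializes_iff_prime_le hU hxU hz).2 hrP)
      (hfeq z x hz hxU (((hp z hz).symm.trans hrV).trans hmax.symm))
    subst this
    rfl
  letI := QCoh.stalkAlg (X := X) (U := U) (x := x) hxU
  letI := QCoh.stalkModule G hxU
  haveI := QCoh.isScalarTower_stalk G hxU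
  haveI := QCoh.isLocalization_stalk' hU hxU
  haveI := QCoh.isLocalizedModule_germLin hG hU hxU
  letI : Algebra Γ(S, V) (X.presheaf.stalk x) := ((q.appLE V U hUV) ≫ X.presheaf.germ U x hxU).hom.toAlgebra
  haveI : IsScalarTower Γ(S, V) Γ(X, U) (X.presheaf.stalk x) := .of_algebraMap_eq fun _ => rfl
  letI : Module Γ(S, V) (G.presheaf.stalk x) :=
    Module.compHom _ ((q.appLE V U hUV) ≫ X.presheaf.germ U x hxU).hom
  haveI : IsScalarTower Γ(S, V) Γ(X, U) (G.presheaf.stalk x) := .of_algebraMap_smul fun _ _ => rfl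
  haveI : Module.Flat Γ(S, V) (G.presheaf.stalk x) := (QCoh.isFlatOverAt_iff q hV hUV hxU).1 hflat
  obtain ⟨m', h1, h2⟩ := exists_special_witness (Bl := X.presheaf.stalk x) P (QCoh.germLin G hxU) hPV Q
    ((RelAssGen.specializes_iff_prime_le hU hxU hyU).1 hyx) hQV hmin' m hann hm
  refine mem_relAss_of_witness q hU hV hUV hG hxU m' ?_ ?_
  · rw [hmax]; exact h1
  · rw [hmax]; exact h2

/-- Generic points of the specialisations of a relatively associated point, where the module is flat. -/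
theorem relAss_of_flat {X S : Scheme.{u}} (f : X ⟶ S) [LocallyOfFiniteType f] (F : X.Modules) (hF : Coh.IsQCoh F)
    (hft : CohB1.IsFT F) {y x : X} (hy : y ∈ MoreMor.relAss f F) (hyx : y ⤳ x)
    (hmin : ∀ z, y ⤳ z → z ⤳ x → f z = f x → z = x) (hflat : FlatMod.IsFlatOverAt f F x) :
    x ∈ MoreMor.relAss f F ∧ FibDim.rd f x = FibDim.rd f y := by
  have hge : FibDim.rd f y ≤ FibDim.rd f x := by
    obtain ⟨z, h1, h2, h3, h4⟩ := FibDim.exists_rd_ge f hyx
    rwa [hmin z h1 h2 h3] at h4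
  obtain ⟨A, _, _, _, τ, hτx, hτy⟩ := exists_valuation_path hyx
  let g : Spec (CommRingCat.of A) ⟶ S := τ ≫ f
  let p := pullback.fst f g
  let q := pullback.snd f g
  have hc : IsPullback p q f g := IsPullback.of_hasPullback f g
  let σ : Spec (CommRingCat.of A) ⟶ pullback f g := pullback.lift τ (𝟙 _) (by rw [Category.id_comp])
  have hσp : ∀ t, p (σ t) = τ t := fun t => by
    show (σ ≫ p) t = τ t
    rw [pullback.lift_fst]
  have hσq : ∀ t, q (σ t) = t := fun t => by
    show (σ ≫ q) t = t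
    rw [pullback.lift_snd]
    rfl
  let η : Spec (CommRingCat.of A) := (⟨⊥, Ideal.isPrime_bot⟩ : PrimeSpectrum A)
  let pt : Spec (CommRingCat.of A) := closedPoint A
  obtain ⟨y', hy'Z, hy'σ, hy'q, hy'max⟩ := FibDim.exists_max_rd q (Z := p ⁻¹' {y}) (x := σ η)
    (show p (σ η) = y by rw [hσp]; exact hτy)
  replace hy'Z : p y' = y := hy'Z
  replace hy'q : q y' = η := hy'q.trans (hσq η)
  have hy'min : ∀ w, w ⤳ y' → p w = p y' → q w = q y' → w = y' := fun w hw hpw hqw => by
    by_contra hne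
    exact absurd (FibDim.rd_lt q hw hne hqw) (not_lt.2 (hy'max w (hpw.trans hy'Z) (hw.trans hy'σ)
      ((hqw.trans hy'q).trans (hσq η).symm)))
  have hσsp : σ η ⤳ σ pt :=
    ((PrimeSpectrum.le_iff_specializes (⟨⊥, Ideal.isPrime_bot⟩ : PrimeSpectrum A) (closedPoint A)).1
      bot_le).map σ.continuous
  obtain ⟨x', hx'Z, hx'σ, hx'q, hx'max⟩ := FibDim.exists_max_rd q (Z := closure {y'}) (x := σ pt)
    (specializes_iff_mem_closure.1 (hy'σ.trans hσsp))
  have hy'x' : y' ⤳ x' := specializes_iff_mem_closure.2 hx'Z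
  replace hx'q : q x' = pt := hx'q.trans (hσq pt)
  have hx'p : p x' = x := by
    refine hmin (p x') (hy'Z ▸ hy'x'.map p.continuous) ?_ ?_
    · have := hx'σ.map p.continuous
      rwa [hσp, hτx] at this
    · show (p ≫ f) x' = f x
      rw [hc.w, Scheme.Hom.comp_apply, hx'q]
      show f (τ (closedPoint A)) = f x
      rw [hτx]
  have hx'min : ∀ w, y' ⤳ w → w ⤳ x' → q w = q x' → w = x' := fun w hw hwx hqw => by
    by_contra hne
    exact absurd (FibDim.rd_lt q hwx hne hqw) (not_lt.2 (hx'max w (specializes_iff_mem_closure.1 hw)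
      (hwx.trans hx'σ) ((hqw.trans hx'q).trans (hσq pt).symm)))
  let G := (Scheme.Modules.pullback p).obj F
  have hy'ass : y' ∈ MoreMor.relAss q G := (RelAssBC.mem_relAss_baseChange_iff hc F y').2
    ⟨by rw [hy'Z]; exact hy, fun w h1 h2 h3 => hy'min w h3 h2 h1⟩
  have hflat' : FlatMod.IsFlatOverAt q G x' :=
    MorLib.FlatBC.isFlatOverAt_baseChange f q p g hc F x' (by rw [hx'p]; exact hflat)
  have hx'ass := relAss_of_valuationRing q G (QCoh.isQCoh_pullback p hF) (QCoh.isFT_pullback p hF hft) y' x'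
    hy'x' hy'ass hy'q hx'q hx'min hflat'
  obtain ⟨hxass, hx'minimal⟩ := (RelAssBC.mem_relAss_baseChange_iff hc F x').1 hx'ass
  rw [hx'p] at hxass
  refine ⟨hxass, le_antisymm ?_ hge⟩
  have e1 := FibDim.rd_baseChange_eq_of_minimal hc y' hy'min
  have e2 := FibDim.rd_baseChange_eq_of_minimal hc x' fun w h1 h2 h3 => hx'minimal w h3 h2 h1
  rw [hy'Z] at e1
  rw [hx'p] at e2
  rw [← e1, ← e2]
  refine FibDim.rd_le_of_valuationRing q hy'x' fun t => ?_
  rw [hy'q]
  exact (PrimeSpectrum.le_iff_specializes (⟨⊥, Ideal.isPrime_bot⟩ : PrimeSpectrum A) t).1 bot_le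

end Groth.Agent.FlatAssoc
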